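import Cfsg.Agent.Rudvalis.Data
import Cfsg.Prelude.Def_Spor_Ru

/-!
# The lattice of the Rudvalis group inside a span

The lattice lies in the span of forty vectors and the multiples of four.
-/

set_option autoImplicit false

namespace Cfsg.Lib.Rudvalis

open Cfsg.Spor

/-- The 56 real coordinates. -/
def coordEquiv : RuIdx × Fin 2 ≃ Fin 56 :=
  (Equiv.prodCongr (finProdFinEquiv : Fin 7 × Fin 4 ≃ Fin 28) (Equiv.refl (Fin 2))).trans finProdFinEquiv

/-- Reading a vector. -/
def flat (v : RuVec) (j : Fin 56) : ℤ :=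
  if (coordEquiv.symm j).2 = 0 then (v (coordEquiv.symm j).1).re else (v (coordEquiv.symm j).1).im

/-- Building a vector. -/
def unflat (f : Fin 56 → ℤ) : RuVec := fun p => ⟨f (coordEquiv (p, 0)), f (coordEquiv (p, 1))⟩

theorem flat_unflat (f : Fin 56 → ℤ) : flat (unflat f) = f := by
  funext j
  obtain ⟨⟨p, c⟩, rfl⟩ := coordEquiv.surjective j
  fin_cases c <;> simp [flat, unflat]

theorem flat_injective : Function.Injective flat := fun v w h => by
  funext p
  have h0 := congrFun h (coordEquiv (p, 0))
  have h1 := congrFun h (coordEquiv (p, 1))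
  simp [flat] at h0 h1
  exact Zsqrtd.ext h0 h1

theorem flat_add (v w : RuVec) : flat (v + w) = flat v + flat w := by
  funext j; simp only [flat, Pi.add_apply]; split <;> simp

/-- Reading as a homomorphism. -/
def flatHom : RuVec →+ (Fin 56 → ℤ) := AddMonoidHom.mk' flat flat_add

theorem flat_zero : flat 0 = 0 := map_zero flatHom

theorem flat_neg (v : RuVec) : flat (-v) = -flat v := map_neg flatHom v

theorem flat_zsmul (n : ℤ) (v : RuVec) : flat (n • v) = n • flat v := map_zsmul flatHom n v

theorem ruNorm_eq (v : RuVec) : ruNorm v = ∑ j, flat v j * flat v j := by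
  rw [← Equiv.sum_comp coordEquiv, Fintype.sum_prod_type, ruNorm]
  refine Finset.sum_congr rfl fun p _ => ?_
  rw [Fin.sum_univ_two, Zsqrtd.norm_def]
  simp [flat]

/-- A digit of a packed row. -/
def digit (r j : ℕ) : ℤ := (((r >>> (2 * j)) % 4 : ℕ) : ℤ)

/-- A generator. -/
def gen (i : Fin 40) : RuVec := unflat fun j => digit (genRows.getD i 0) j

theorem flat_gen (i : Fin 40) (j : Fin 56) : flat (gen i) j = digit (genRows.getD i 0) j := by
  rw [gen, flat_unflat]

/-- The span. -/
def span : AddSubgroup RuVec :=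
  AddSubgroup.closure (Set.range gen ∪ {v | ∃ u : RuVec, v = (4 : ℤ) • u})

/-- A vector is congruent to a combination. -/
def coordsOK (v : RuVec) (c : ℕ) : Bool :=
  (List.finRange 56).all fun j =>
    (flat v j - ((List.finRange 40).map fun (i : Fin 40) => digit c i * digit (genRows.getD i 0) j).sum) % 4 == 0

theorem mem_span_of_coords {v : RuVec} {c : ℕ} (h : coordsOK v c = true) : v ∈ span := by
  simp only [coordsOK, List.all_eq_true, List.mem_finRange, true_implies, beq_iff_eq] at h
  set w : RuVec := ∑ i : Fin 40, digit c i • gen i with hw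
  have hwm : w ∈ span := sum_mem fun i _ => AddSubgroup.zsmul_mem _ (show gen i ∈ span from AddSubgroup.subset_closure (Or.inl ⟨i, rfl⟩)) _
  have hwf : ∀ j, flat w j = ((List.finRange 40).map fun (i : Fin 40) => digit c i * digit (genRows.getD i 0) j).sum := by
    intro j
    show flatHom w j = _
    rw [hw, map_sum, Finset.sum_apply, ← Fin.sum_univ_def]
    exact Finset.sum_congr rfl fun i _ => by rw [map_zsmul, Pi.smul_apply, smul_eq_mul]; exact congrArg _ (flat_gen i j)
  choose q hq using fun j => Int.dvd_of_emod_eq_zero (h j)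
  have e : v = (4 : ℤ) • unflat q + w := flat_injective (by
    funext j
    rw [flat_add, flat_zsmul, Pi.add_apply, Pi.smul_apply, flat_unflat, hwf j, smul_eq_mul]
    linarith [hq j])
  rw [e]
  exact add_mem (AddSubgroup.subset_closure (Or.inr ⟨_, rfl⟩)) hwm

/-- The five maps. -/
def mapOf : Fin 5 → RuVec → RuVec
  | 0 => fun v => gI • v
  | 1 => ruRj
  | 2 => ruRk
  | 3 => ruSign
  | 4 => ruShift

theorem mapOf_add (s : Fin 5) (v w : RuVec) : mapOf s (v + w) = mapOf s v + mapOf s w := by
  funext p
  fin_cases s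
  · show gI • (v + w) p = gI • v p + gI • w p
    rw [Pi.add_apply, smul_add]
  all_goals obtain ⟨n, t⟩ := p
  · fin_cases t <;> simp [mapOf, ruRj] <;> ring
  · fin_cases t <;> simp [mapOf, ruRk] <;> ring
  · simp only [mapOf, ruSign, Pi.add_apply]; split <;> ring
  · simp [mapOf, ruShift]

theorem table_ok : ruTable.length = 20 ∧
    ((List.range 20).all fun k => coordsOK (ruTable.getD k 0) (tableCoords.getD k 0)) = true := by decide +kernel

theorem map_ok : ∀ s : Fin 5, ((List.finRange 40).all fun (i : Fin 40) =>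
    coordsOK (mapOf s (gen i)) ((mapCoords.getD s []).getD i 0)) = true := by decide +kernel

theorem map_mem (s : Fin 5) {v : RuVec} (hv : v ∈ span) : mapOf s v ∈ span := by
  refine (AddSubgroup.closure_le (span.comap (AddMonoidHom.mk' (mapOf s) (mapOf_add s)))).mpr ?_ hv
  rintro x (⟨i, rfl⟩ | ⟨u, rfl⟩)
  · exact mem_span_of_coords (List.all_eq_true.mp (map_ok s) i (List.mem_finRange i))
  · exact AddSubgroup.subset_closure (Or.inr ⟨mapOf s u, map_zsmul (AddMonoidHom.mk' (mapOf s) (mapOf_add s)) 4 u⟩)

theorem lattice_le : ruLattice ≤ span := by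
  refine sInf_le ⟨fun v hv => ?_, fun v hv => ⟨map_mem 0 hv, map_mem 1 hv, map_mem 2 hv, map_mem 3 hv, map_mem 4 hv⟩⟩
  obtain ⟨k, hk, rfl⟩ := List.getElem_of_mem hv
  have h := List.all_eq_true.mp table_ok.2 k (List.mem_range.mpr (table_ok.1 ▸ hk))
  rw [List.getD_eq_getElem _ _ hk] at h
  exact mem_span_of_coords h

end Cfsg.Lib.Rudvalis
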