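import Cfsg.Agent.Rudvalis.Basic

/-!
# The computations for the lattice of the Rudvalis group
-/

set_option autoImplicit false

namespace Cfsg.Lib.Rudvalis

/-- The products of the generators. -/
def gramOK : Bool :=
  (List.finRange 40).all fun (i : Fin 40) => (List.finRange 40).all fun (k : Fin 40) =>
    ((List.range 56).map fun j => digit (genRows.getD i 0) j * digit (genRows.getD k 0) j).sum %
      (if i = k then 8 else 4) == 0

theorem gram_ok : gramOK = true := by decide +kernel

/-- The parity prescribed by an information set. -/
def predict (R : List ℕ) (f : ℕ → ℕ) (j : ℕ) : ℕ :=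
  ((List.range 19).map fun i => f i * ((R.getD i 0 >>> j) % 2)).sum

/-- A systematic basis fits the generators. -/
def sysOK (I R : List ℕ) : Bool :=
  (List.range 19).all (fun i => Nat.blt (I.getD i 56) 56) &&
    (List.finRange 40).all fun (k : Fin 40) => (List.range 56).all fun j =>
      (predict R (fun i => ((genRows.getD k 0) >>> (2 * I.getD i 56)) % 2) j) % 2 == ((genRows.getD k 0) >>> (2 * j)) % 2

/-- The support of a combination. -/
def suppOf (R : List ℕ) (s : List ℕ) : List ℕ :=
  (List.range 56).filter fun j => (s.map fun i => (R.getD i 0 >>> j) % 2).sum % 2 == 1

/-- The short combinations give no word shorter than eight and only the seven of weight eight. -/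
def searchOK (R : List ℕ) : Bool :=
  (List.range 5).all fun m => (List.sublistsLen m (List.range 19)).all fun s =>
    (fun t => Nat.blt 8 t.length || t.length == 0 || eights.contains t) (suppOf R s)

theorem sys_ok : sysOK infoA codeA = true ∧ sysOK infoB codeB = true ∧ infoA.length = 19 ∧ infoB.length = 19 ∧
    (infoA ++ infoB).Nodup := by decide +kernel

theorem search_okA : searchOK codeA = true := by decide +kernel

theorem search_okB : searchOK codeB = true := by decide +kernel

/-- All sign vectors. -/
def signLists : ℕ → List (List ℤ)
  | 0 => [[]]
  | n + 1 => (signLists n).flatMap fun l => [1 :: l, -1 :: l]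

/-- No signed word of weight eight is orthogonal to all generators. -/
def eightsOK : Bool :=
  eights.all fun c => c.length == 8 && c.all (fun j => Nat.blt j 56) && decide c.Nodup &&
    (signLists 8).all fun s => (List.finRange 40).any fun (i : Fin 40) =>
      !(((List.zipWith (fun j a => a * digit (genRows.getD i 0) j) c s).sum) % 4 == 0)

/-- The parity columns are different. -/
def colOK : Bool :=
  decide ((List.range 56).map fun j => (List.range 40).map fun i => (genRows.getD i 0 >>> (2 * j)) % 2).Nodup

theorem eights_ok : eightsOK = true := by decide +kernel

theorem col_ok : colOK = true := by decide +kernel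

end Cfsg.Lib.Rudvalis
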