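import Cfsg.Agent.Rudvalis.Check

/-!
# The minimum of the lattice of the Rudvalis group

A vector of norm eight would be twice a vector of norm two or have eight odd coordinates; the parities
lie in a code of dimension nineteen, searched through two disjoint information sets.
-/

set_option autoImplicit false

namespace Cfsg.Lib.Rudvalis

open Cfsg.Spor

/-- The inner product of the real coordinates. -/
def dot (v w : RuVec) : ℤ := ∑ j, flat v j * flat w j

theorem dot_add (v w u : RuVec) : dot v (w + u) = dot v w + dot v u := by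
  simp only [dot, flat_add, Pi.add_apply, mul_add, Finset.sum_add_distrib]

theorem dot_comm (v w : RuVec) : dot v w = dot w v := Finset.sum_congr rfl fun j _ => mul_comm _ _

theorem dot_neg (v w : RuVec) : dot v (-w) = -dot v w := by
  simp [dot, flat_neg, Finset.sum_neg_distrib]

theorem dot_zero (v : RuVec) : dot v 0 = 0 := by simp [dot, flat_zero]

theorem dot_four (v u : RuVec) : dot v ((4 : ℤ) • u) = 4 * dot v u := by
  simp only [dot, flat_zsmul, Pi.smul_apply, smul_eq_mul, Finset.mul_sum]
  exact Finset.sum_congr rfl fun j _ => by ring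

theorem dot_gen (i k : Fin 40) :
    (4 : ℤ) ∣ dot (gen i) (gen k) ∧ (i = k → (8 : ℤ) ∣ dot (gen i) (gen k)) := by
  have h := List.all_eq_true.mp (List.all_eq_true.mp gram_ok i (List.mem_finRange i)) k (List.mem_finRange k)
  have e : dot (gen i) (gen k) =
      ((List.range 56).map fun j => digit (genRows.getD i 0) j * digit (genRows.getD k 0) j).sum := by
    simp only [dot, flat_gen]
    rw [Fin.sum_univ_def, ← List.map_coe_finRange_eq_range, List.map_map]
    rfl
  rw [beq_iff_eq, ← e] at h
  by_cases hik : i = k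
  · rw [if_pos hik] at h
    exact ⟨(show (4 : ℤ) ∣ 8 by norm_num).trans (Int.dvd_of_emod_eq_zero h), fun _ => Int.dvd_of_emod_eq_zero h⟩
  · rw [if_neg hik] at h
    exact ⟨Int.dvd_of_emod_eq_zero h, fun he => absurd he hik⟩

theorem dot_gen_span {v : RuVec} (hv : v ∈ span) (i : Fin 40) : (4 : ℤ) ∣ dot (gen i) v := by
  induction hv using AddSubgroup.closure_induction with
  | mem x hx =>
    rcases hx with ⟨k, rfl⟩ | ⟨u, rfl⟩
    · exact (dot_gen i k).1
    · exact dot_four _ u ▸ dvd_mul_right 4 _
  | zero => simp [dot_zero]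
  | add x y _ _ hx hy => rw [dot_add]; exact dvd_add hx hy
  | neg x _ hx => rw [dot_neg]; exact dvd_neg.mpr hx

theorem dot_span {v w : RuVec} (hv : v ∈ span) (hw : w ∈ span) : (4 : ℤ) ∣ dot v w := by
  induction hw using AddSubgroup.closure_induction with
  | mem x hx =>
    rcases hx with ⟨k, rfl⟩ | ⟨u, rfl⟩
    · exact dot_comm v _ ▸ dot_gen_span hv k
    · exact dot_four _ u ▸ dvd_mul_right 4 _
  | zero => simp [dot_zero]
  | add x y _ _ hx hy => rw [dot_add]; exact dvd_add hx hy
  | neg x _ hx => rw [dot_neg]; exact dvd_neg.mpr hx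

theorem norm_span {v : RuVec} (hv : v ∈ span) : (8 : ℤ) ∣ dot v v := by
  induction hv using AddSubgroup.closure_induction with
  | mem x hx =>
    rcases hx with ⟨k, rfl⟩ | ⟨u, rfl⟩
    · exact (dot_gen k k).2 rfl
    · rw [dot_four, dot_comm, dot_four]; exact ⟨2 * dot u u, by ring⟩
  | zero => simp [dot_zero]
  | add x y hx' hy' hx hy =>
    obtain ⟨c, hc⟩ := dot_span hx' hy'
    obtain ⟨a, ha⟩ := hx
    obtain ⟨b, hb⟩ := hy
    rw [dot_add, dot_comm (x + y) x, dot_comm (x + y) y, dot_add, dot_add, dot_comm y x, ha, hb, hc]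
    exact ⟨a + b + c, by ring⟩
  | neg x _ hx => rw [dot_neg, dot_comm, dot_neg, neg_neg]; exact hx

theorem mem_signLists : ∀ l : List ℤ, (∀ a ∈ l, a = 1 ∨ a = -1) → l ∈ signLists l.length
  | [], _ => by simp [signLists]
  | a :: l, h => by
    simp only [List.length_cons, signLists, List.mem_flatMap]
    refine ⟨l, mem_signLists l fun b hb => h b (List.mem_cons_of_mem a hb), ?_⟩
    rcases h a (List.mem_cons_self ..) with rfl | rfl <;> simp

theorem digit_parity (r j : ℕ) : (digit r j : ZMod 2) = (((r >>> (2 * j)) % 2 : ℕ) : ZMod 2) := by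
  rw [digit, Int.cast_natCast, ZMod.natCast_eq_natCast_iff']
  omega

/-- A coordinate by number. -/
def at56 (v : RuVec) (j : ℕ) : ℤ := if h : j < 56 then flat v ⟨j, h⟩ else 0

theorem at56_fin (v : RuVec) (j : Fin 56) : at56 v j = flat v j := dif_pos j.2

theorem at56_add (v w : RuVec) (j : ℕ) : at56 (v + w) j = at56 v j + at56 w j := by
  unfold at56; split <;> simp [flat_add]

theorem at56_neg (v : RuVec) (j : ℕ) : at56 (-v) j = -at56 v j := by
  unfold at56; split <;> simp [flat_neg]

theorem at56_zero (j : ℕ) : at56 0 j = 0 := by unfold at56; split <;> simp [flat_zero]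

theorem at56_four (u : RuVec) (j : ℕ) : (at56 ((4 : ℤ) • u) j : ZMod 2) = 0 := by
  unfold at56
  split
  · rw [flat_zsmul, Pi.smul_apply, smul_eq_mul, Int.cast_mul]; exact mul_eq_zero_of_left (by decide) _
  · simp

theorem parity_eq {I R : List ℕ} (h : sysOK I R = true) {v : RuVec} (hv : v ∈ span) {j : ℕ} (hj : j < 56) :
    (at56 v j : ZMod 2) = ∑ i ∈ Finset.range 19, (at56 v (I.getD i 56) : ZMod 2) * (((R.getD i 0 >>> j) % 2 : ℕ) : ZMod 2) := by
  simp only [sysOK, Bool.and_eq_true, List.all_eq_true, List.mem_range, List.mem_finRange, true_implies, beq_iff_eq,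
    Nat.blt, Nat.ble_eq] at h
  induction hv using AddSubgroup.closure_induction with
  | mem x hx =>
    rcases hx with ⟨k, rfl⟩ | ⟨u, rfl⟩
    · have hd : ∀ l, l < 56 → (at56 (gen k) l : ZMod 2) = (((genRows.getD k 0 >>> (2 * l)) % 2 : ℕ) : ZMod 2) := by
        intro l hl
        rw [at56, dif_pos hl, flat_gen]; exact digit_parity _ _
      rw [hd j hj, ← h.2 k j hj, ZMod.natCast_mod, predict, ← List.sum_toFinset _ List.nodup_range,
        List.toFinset_range, Nat.cast_sum]
      exact Finset.sum_congr rfl fun i hi => by rw [hd _ (h.1 i (Finset.mem_range.mp hi)), Nat.cast_mul]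
    · rw [at56_four]; exact (Finset.sum_eq_zero fun i _ => by rw [at56_four, zero_mul]).symm
  | zero => simp [at56_zero]
  | add x y _ _ hx hy => simp only [at56_add, Int.cast_add, add_mul, Finset.sum_add_distrib, hx, hy]
  | neg x _ hx => simp only [at56_neg, Int.cast_neg, neg_mul, Finset.sum_neg_distrib, hx]

/-- The odd coordinates. -/
def oddPos (v : RuVec) : List ℕ := (List.range 56).filter fun j => decide ((at56 v j : ZMod 2) = 1)

theorem zmod2_cases : ∀ a : ZMod 2, a = 0 ∨ a = 1 := by decide

theorem oddPos_cases {I R : List ℕ} (h : sysOK I R = true) (hs : searchOK R = true) {v : RuVec} (hv : v ∈ span)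
    (hfew : ((List.range 19).filter fun i => decide ((at56 v (I.getD i 56) : ZMod 2) = 1)).length ≤ 4)
    (hlen : (oddPos v).length ≤ 8) : oddPos v = [] ∨ oddPos v ∈ eights := by
  set s := (List.range 19).filter fun i => decide ((at56 v (I.getD i 56) : ZMod 2) = 1) with hsdef
  have e : suppOf R s = oddPos v := by
    refine List.filter_congr fun j hj => ?_
    have hj' := List.mem_range.mp hj
    have hsum : (((s.map fun i => (R.getD i 0 >>> j) % 2).sum : ℕ) : ZMod 2) = (at56 v j : ZMod 2) := by
      rw [parity_eq h hv hj', hsdef, ← List.sum_toFinset _ (List.nodup_range.filter _), List.toFinset_filter,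
        List.toFinset_range, Nat.cast_sum, Finset.sum_filter]
      refine Finset.sum_congr rfl fun i _ => ?_
      rcases zmod2_cases (at56 v (I.getD i 56) : ZMod 2) with h0 | h1
      · rw [if_neg (by rw [decide_eq_true_eq, h0]; exact zero_ne_one), h0, zero_mul]
      · rw [if_pos (decide_eq_true h1), h1, one_mul]
    rw [← hsum, Bool.eq_iff_iff, beq_iff_eq, decide_eq_true_eq]
    generalize (s.map fun i => (R.getD i 0 >>> j) % 2).sum = n
    exact ⟨fun hn => by rw [← ZMod.natCast_mod, hn]; rfl, fun hn => by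
      rw [← Nat.cast_one, ZMod.natCast_eq_natCast_iff'] at hn; omega⟩
  have hmem : s ∈ List.sublistsLen s.length (List.range 19) := List.mem_sublistsLen.mpr ⟨List.filter_sublist, rfl⟩
  have h2 := List.all_eq_true.mp (List.all_eq_true.mp hs s.length (List.mem_range.mpr (by omega))) s hmem
  simp only [e, Bool.or_eq_true, Nat.blt, Nat.ble_eq, beq_iff_eq, List.contains_iff_mem] at h2
  rcases h2 with (h2 | h2) | h2
  · omega
  · exact Or.inl (List.length_eq_zero_iff.mp h2)
  · exact Or.inr h2

theorem odd_iff (v : RuVec) (j : Fin 56) : (j : ℕ) ∈ oddPos v ↔ flat v j % 2 ≠ 0 := by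
  rw [oddPos, List.mem_filter, decide_eq_true_eq, at56_fin]
  constructor
  · rintro ⟨-, h⟩ h0
    rw [(ZMod.intCast_zmod_eq_zero_iff_dvd _ 2).mpr (Int.dvd_of_emod_eq_zero h0)] at h
    exact zero_ne_one h
  · intro h
    refine ⟨List.mem_range.mpr j.2, (zmod2_cases _).resolve_left fun h0 => h ?_⟩
    exact Int.emod_eq_zero_of_dvd ((ZMod.intCast_zmod_eq_zero_iff_dvd _ 2).mp h0)

theorem no_norm_eight {v : RuVec} (hv : v ∈ span) (h8 : dot v v = 8) : False := by
  classical
  -- at most eight odd coordinates
  have hnd : (oddPos v).Nodup := List.nodup_range.filter _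
  have hlt : ∀ j ∈ oddPos v, j < 56 := fun j hj => List.mem_range.mp (List.mem_filter.mp hj).1
  set D : Finset (Fin 56) := Finset.univ.filter fun j => (j : ℕ) ∈ oddPos v with hD
  have hDcard : D.card = (oddPos v).length := by
    rw [← List.toFinset_card_of_nodup hnd, ← Finset.card_map Fin.valEmbedding]
    congr 1
    ext j
    simp only [hD, Finset.mem_map, Finset.mem_filter, Finset.mem_univ, true_and, Fin.valEmbedding_apply, List.mem_toFinset]
    exact ⟨by rintro ⟨k, hk, rfl⟩; exact hk, fun hj => ⟨⟨j, hlt j hj⟩, hj, rfl⟩⟩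
  have hsq1 : ∀ j ∈ D, 1 ≤ flat v j * flat v j := fun j hj => by
    have := (odd_iff v j).mp (Finset.mem_filter.mp hj).2
    have h0 : flat v j ≠ 0 := fun e => this (by rw [e]; rfl)
    exact mul_self_pos.mpr h0
  have hsumD : ∑ j ∈ D, flat v j * flat v j + ∑ j ∈ Dᶜ, flat v j * flat v j = 8 := by
    rw [Finset.sum_add_sum_compl]; exact h8
  have hnn : 0 ≤ ∑ j ∈ Dᶜ, flat v j * flat v j := Finset.sum_nonneg fun j _ => mul_self_nonneg _
  have hD8 : (D.card : ℤ) ≤ ∑ j ∈ D, flat v j * flat v j := by
    simpa using Finset.card_nsmul_le_sum D _ (1 : ℤ) hsq1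
  have hlen : (oddPos v).length ≤ 8 := by rw [← hDcard]; omega
  set fA := (List.range 19).filter fun i => decide ((at56 v (infoA.getD i 56) : ZMod 2) = 1)
  set fB := (List.range 19).filter fun i => decide ((at56 v (infoB.getD i 56) : ZMod 2) = 1)
  have hfew : fA.length ≤ 4 ∨ fB.length ≤ 4 := by
    have hsub : (infoA ++ infoB).filter (fun j => decide ((at56 v j : ZMod 2) = 1)) ⊆ oddPos v := by
      intro j hj
      rw [List.mem_filter] at hj
      refine List.mem_filter.mpr ⟨List.mem_range.mpr ?_, hj.2⟩
      by_contra hge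
      simp [at56, hge] at hj
    have hle := ((sys_ok.2.2.2.2.filter _).subperm hsub).length_le
    have key : ∀ I : List ℕ, I.length = 19 → (I.filter fun j => decide ((at56 v j : ZMod 2) = 1)).length =
        ((List.range 19).filter fun i => decide ((at56 v (I.getD i 56) : ZMod 2) = 1)).length := by
      intro I hI
      have : I = (List.range 19).map fun i => I.getD i 56 := by
        refine List.ext_getElem (by simp [hI]) fun i h1 h2 => ?_
        simp [List.getD_eq_getElem?_getD, h1]
      conv_lhs => rw [this, List.filter_map, List.length_map]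
      rfl
    rw [List.filter_append, List.length_append, key _ sys_ok.2.2.1, key _ sys_ok.2.2.2.1] at hle
    change fA.length + fB.length ≤ (oddPos v).length at hle
    omega
  have hcases : oddPos v = [] ∨ oddPos v ∈ eights := hfew.elim
    (fun h => oddPos_cases sys_ok.1 search_okA hv h hlen) (fun h => oddPos_cases sys_ok.2.1 search_okB hv h hlen)
  rcases hcases with he | he
  · -- twice a vector of norm two
    have hev : ∀ j, (2 : ℤ) ∣ flat v j := fun j => Int.dvd_of_emod_eq_zero (by
      by_contra h; exact List.not_mem_nil (he ▸ (odd_iff v j).mpr h))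
    choose y hy using hev
    have hy2 : ∑ j, y j * y j = 2 := by
      have : dot v v = 4 * ∑ j, y j * y j := by
        simp only [dot, hy, Finset.mul_sum]; exact Finset.sum_congr rfl fun j _ => by ring
      omega
    set S := Finset.univ.filter fun j => y j ≠ 0 with hS
    have hsq : ∀ j ∈ S, 1 ≤ y j * y j := fun j hj => mul_self_pos.mpr (Finset.mem_filter.mp hj).2
    have hSsum : ∑ j ∈ S, y j * y j = 2 := by
      rw [← hy2, hS, Finset.sum_filter]
      exact Finset.sum_congr rfl fun j _ => by split <;> simp_all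
    have hle2 : (S.card : ℤ) ≤ 2 := hSsum ▸ (by simpa using Finset.card_nsmul_le_sum S _ (1 : ℤ) hsq)
    have hone : ∀ j ∈ S, y j = 1 ∨ y j = -1 := fun j hj => by
      have h1 : y j * y j ≤ 2 := hSsum ▸ Finset.single_le_sum (fun k _ => mul_self_nonneg (y k)) hj
      have h2 := (Finset.mem_filter.mp hj).2
      rcases (show y j ≤ -2 ∨ y j = 1 ∨ y j = -1 ∨ 2 ≤ y j by omega) with h | h | h | h
      · nlinarith
      · exact Or.inl h
      · exact Or.inr h
      · nlinarith
    have hcard : S.card = 2 := by
      have : ∑ j ∈ S, y j * y j = ∑ j ∈ S, (1 : ℤ) :=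
        Finset.sum_congr rfl fun j hj => by rcases hone j hj with e | e <;> rw [e] <;> norm_num
      rw [hSsum, Finset.sum_const, nsmul_one] at this
      exact_mod_cast this.symm
    obtain ⟨a, b, hab, hSab⟩ := Finset.card_eq_two.mp hcard
    have hcol : ∀ i < 40, (genRows.getD i 0 >>> (2 * (a : ℕ))) % 2 = (genRows.getD i 0 >>> (2 * (b : ℕ))) % 2 := by
      intro i hi
      obtain ⟨c, hc⟩ := dot_gen_span hv ⟨i, hi⟩
      have e : dot (gen ⟨i, hi⟩) v = 2 * (digit (genRows.getD i 0) a * y a + digit (genRows.getD i 0) b * y b) := by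
        rw [dot, ← Finset.sum_subset (Finset.subset_univ S), hSab, Finset.sum_pair hab, flat_gen, flat_gen, hy, hy]
        · ring
        · intro j _ hj
          have : y j = 0 := by simpa [hS] using hj
          rw [hy, this, mul_zero, mul_zero]
      have h2 : (2 : ℤ) * c = digit (genRows.getD i 0) a * y a + digit (genRows.getD i 0) b * y b := by omega
      simp only [digit] at h2
      rcases hone a (hSab ▸ Finset.mem_insert_self a {b}) with ea | ea <;>
        rcases hone b (hSab ▸ Finset.mem_insert_of_mem (Finset.mem_singleton_self b)) with eb | eb <;>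
        rw [ea, eb] at h2 <;> omega
    refine hab (Fin.ext (List.inj_on_of_nodup_map (decide_eq_true_eq.mp col_ok) (List.mem_range.mpr a.2)
      (List.mem_range.mpr b.2) (List.map_congr_left fun i hi => hcol i (List.mem_range.mp hi))))
  · -- eight odd coordinates
    have h := List.all_eq_true.mp eights_ok _ he
    simp only [Bool.and_eq_true, beq_iff_eq] at h
    obtain ⟨⟨⟨hl, -⟩, -⟩, hsign⟩ := h
    have hD' : D.card = 8 := hDcard.trans hl
    have hcompl : ∀ j ∉ D, flat v j = 0 := fun j hj => by
      have h0 : ∑ j ∈ Dᶜ, flat v j * flat v j = 0 := by omega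
      exact mul_self_eq_zero.mp ((Finset.sum_eq_zero_iff_of_nonneg fun k _ => mul_self_nonneg _).mp h0 j (by simpa using hj))
    have hpm : ∀ j ∈ D, flat v j = 1 ∨ flat v j = -1 := fun j hj => by
      by_contra hne
      have h2 := hsq1 j hj
      have h4 : 4 ≤ flat v j * flat v j := by
        rcases (show flat v j ≤ -2 ∨ flat v j = 0 ∨ 2 ≤ flat v j by omega) with h | h | h
        · nlinarith
        · rw [h] at h2; norm_num at h2
        · nlinarith
      rw [← Finset.add_sum_erase _ _ hj] at hsumD
      have h7 : (7 : ℤ) ≤ ∑ k ∈ D.erase j, flat v k * flat v k := by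
        have h := Finset.card_nsmul_le_sum (D.erase j) (fun k => flat v k * flat v k) (1 : ℤ)
          fun k hk => hsq1 k (Finset.mem_of_mem_erase hk)
        rw [Finset.card_erase_of_mem hj, hD'] at h
        simpa using h
      omega
    set s : List ℤ := (oddPos v).map (at56 v) with hs
    have hsm : s ∈ signLists 8 := by
      have := mem_signLists s (by
        intro a ha
        rw [hs, List.mem_map] at ha
        obtain ⟨j, hj, rfl⟩ := ha
        rw [show at56 v j = flat v ⟨j, hlt j hj⟩ from dif_pos (hlt j hj)]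
        exact hpm _ (by simp [hD, hj]))
      rwa [hs, List.length_map, hl] at this
    obtain ⟨i, -, hi⟩ := List.any_eq_true.mp (List.all_eq_true.mp hsign s hsm)
    simp only [Bool.not_eq_true', beq_eq_false_iff_ne] at hi
    refine hi (Int.emod_eq_zero_of_dvd ?_)
    have e : (List.zipWith (fun j a => a * digit (genRows.getD i 0) j) (oddPos v) s).sum = dot (gen i) v := by
      rw [hs, List.zipWith_map_right, List.zipWith_self, ← List.sum_toFinset _ hnd, dot,
        ← Finset.sum_subset (Finset.subset_univ D) (fun j _ hj => by rw [hcompl j hj, mul_zero])]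
      rw [show (oddPos v).toFinset = D.map Fin.valEmbedding by
        ext j
        simp only [hD, Finset.mem_map, Finset.mem_filter, Finset.mem_univ, true_and, Fin.valEmbedding_apply, List.mem_toFinset]
        exact ⟨fun hj => ⟨⟨j, hlt j hj⟩, hj, rfl⟩, by rintro ⟨k, hk, rfl⟩; exact hk⟩, Finset.sum_map]
      exact Finset.sum_congr rfl fun j _ => by
        rw [Fin.valEmbedding_apply, at56_fin, flat_gen]; ring
    rw [e]
    exact dot_gen_span hv i

theorem ru_minimum : (∀ x ∈ ruLattice, (8 : ℤ) ∣ ruNorm x) ∧ (∀ x ∈ ruLattice, ruNorm x ≠ 8) ∧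
    (∀ x ∈ ruLattice, x ≠ 0 → 16 ≤ ruNorm x) ∧ ∃ x ∈ ruLattice, ruNorm x = 16 := by
  have h1 : ∀ x ∈ ruLattice, (8 : ℤ) ∣ ruNorm x := fun x hx => by
    rw [ruNorm_eq]; exact norm_span (lattice_le hx)
  have h2 : ∀ x ∈ ruLattice, ruNorm x ≠ 8 := fun x hx h => no_norm_eight (lattice_le hx) (by rw [dot, ← ruNorm_eq, h])
  refine ⟨h1, h2, fun x hx hne => ?_, ruTable.getD 0 0, ?_, by decide +kernel⟩
  · have hpos : 0 < ruNorm x := by
      rw [ruNorm_eq]
      refine lt_of_le_of_ne (Finset.sum_nonneg fun j _ => mul_self_nonneg _) fun h => hne (flat_injective ?_)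
      funext j
      rw [flat_zero]
      exact mul_self_eq_zero.mp ((Finset.sum_eq_zero_iff_of_nonneg fun k _ => mul_self_nonneg _).mp h.symm j (Finset.mem_univ j))
    obtain ⟨c, hc⟩ := h1 x hx
    have := h2 x hx
    omega
  · have hm : ruTable.getD 0 0 ∈ ruTable := by
      rw [List.getD_eq_getElem _ _ (table_ok.1 ▸ (by norm_num : 0 < 20))]; exact List.getElem_mem _
    rw [ruLattice, AddSubgroup.mem_sInf]
    exact fun L hL => hL.1 _ hm

end Cfsg.Lib.Rudvalis
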